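import Cfsg.Agent.S2788
import Cfsg.Agent.Lib.SL2.PSL
import Cfsg.Agent.Lib.Transfer.Basic

/-!
# Lower bounds for the index of fixed points in faithful modules
-/

set_option autoImplicit false
set_option linter.style.haveILetI false

namespace CfsgLib.ModuleIndex

variable {G : Type*} [Group G] [Finite G] {p : ℕ} [Fact p.Prime] {V H : Subgroup G}

/-- An element whose image has prime power order `r ^ k` moves at least `p ^ d`. -/
theorem index_ge (hV : IsPGroup p V) (hHV : H ≤ Subgroup.normalizer (V : Set G))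
    (hf : H ⊓ Subgroup.centralizer (V : Set G) = ⊥) {Q : Type*} [Group Q] (f : H →* Q) (z : H)
    {r k d : ℕ} [hr : Fact r.Prime] (hrp : r ≠ p) (hk : 0 < k) (hz : orderOf (f z) = r ^ k)
    (hd : ∀ j, 0 < j → p ^ j ≡ 1 [MOD r ^ k] → d ≤ j) :
    p ^ d ≤ (V ⊓ Subgroup.centralizer ({(z : G)} : Set G)).relIndex V := by
  classical
  have hpos : 0 < orderOf z := orderOf_pos z
  obtain ⟨a, b, hb, hab⟩ := Nat.exists_eq_pow_mul_and_not_dvd hpos.ne' r hr.out.ne_one
  have hdvd : r ^ k ∣ orderOf z := hz ▸ orderOf_map_dvd f z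
  have hka : k ≤ a := by
    rw [hab] at hdvd
    have hc : Nat.Coprime (r ^ k) b := Nat.Coprime.pow_left k ((Nat.Prime.coprime_iff_not_dvd hr.out).mpr hb)
    exact (Nat.pow_dvd_pow_iff_le_right hr.out.one_lt).mp (hc.dvd_of_dvd_mul_right hdvd)
  have hb0 : b ≠ 0 := fun e => hb (e ▸ dvd_zero r)
  have huo : orderOf ((z : G) ^ b) = r ^ a := by
    rw [orderOf_pow, Subgroup.orderOf_coe, hab, Nat.gcd_eq_right (dvd_mul_left b _),
      Nat.mul_div_cancel _ (Nat.pos_of_ne_zero hb0)]
  have huH : (z : G) ^ b ∈ H := pow_mem z.2 b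
  have hy : ∃ v ∈ V, ((z : G) ^ b) ^ r ^ (a - 1) * v ≠ v * ((z : G) ^ b) ^ r ^ (a - 1) := by
    by_contra hc
    push Not at hc
    have h1 : ((z : G) ^ b) ^ r ^ (a - 1) ∈ H ⊓ Subgroup.centralizer (V : Set G) :=
      ⟨pow_mem huH _, Subgroup.mem_centralizer_iff.mpr fun v hv => (hc v hv).symm⟩
    rw [hf, Subgroup.mem_bot] at h1
    have h2 := orderOf_dvd_of_pow_eq_one h1
    rw [huo, Nat.pow_dvd_pow_iff_le_right hr.out.one_lt] at h2
    omega
  obtain ⟨j, hj0, hj1, hj2⟩ := Cfsg.Agent.S2788.free_index (show 0 < a by omega) hrp V hV huo (hHV huH) hy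
  refine ((Nat.pow_le_pow_right (Fact.out : p.Prime).pos
    (hd j hj0 (hj1.of_dvd (pow_dvd_pow r hka)))).trans hj2).trans
    (Subgroup.relIndex_le_of_le_left ?_ Subgroup.index_ne_zero_of_finite)
  refine inf_le_inf_left V fun v hv => ?_
  rw [Subgroup.mem_centralizer_singleton_iff] at hv ⊢
  exact (Commute.pow_right (show Commute v (z : G) from hv) b).eq

omit [Fact p.Prime] in
/-- Fixed points of a conjugate have the same index. -/
theorem index_conj (hHV : H ≤ Subgroup.normalizer (V : Set G)) (a h : H) :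
    (V ⊓ Subgroup.centralizer ({((h * a * h⁻¹ : H) : G)} : Set G)).relIndex V =
      (V ⊓ Subgroup.centralizer ({(a : G)} : Set G)).relIndex V := by
  set c := (MulAut.conj (h : G)).toMonoidHom with hcdef
  have e2 : V.map c = V := Subgroup.mem_normalizer_iff_map_conj_eq.mp (hHV h.2)
  have e1 : (Subgroup.centralizer ({(a : G)} : Set G)).map c =
      Subgroup.centralizer ({((h * a * h⁻¹ : H) : G)} : Set G) := by
    ext x
    rw [hcdef, Subgroup.mem_map_equiv, Subgroup.mem_centralizer_singleton_iff,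
      Subgroup.mem_centralizer_singleton_iff, MulAut.conj_symm_apply]
    push_cast
    constructor <;> intro e
    · calc x * ((h : G) * a * (h : G)⁻¹) = h * ((h : G)⁻¹ * x * h * a) * (h : G)⁻¹ := by group
        _ = _ := by rw [e]; group
    · calc (h : G)⁻¹ * x * h * a = (h : G)⁻¹ * (x * ((h : G) * a * (h : G)⁻¹)) * h := by group
        _ = _ := by rw [e]; group
  conv_lhs => rw [← e1, ← e2, ← Subgroup.map_inf _ _ c (MulAut.conj (h : G)).injective]
  exact Subgroup.relIndex_map_map_of_injective _ _ (MulAut.conj (h : G)).injective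

omit [Fact p.Prime] in
/-- A power of a product of two conjugates moves at most the square. -/
theorem index_pair (hHV : H ≤ Subgroup.normalizer (V : Set G)) (a h : H) (e : ℕ) :
    (V ⊓ Subgroup.centralizer ({(((a * (h * a * h⁻¹)) ^ e : H) : G)} : Set G)).relIndex V ≤
      (V ⊓ Subgroup.centralizer ({(a : G)} : Set G)).relIndex V ^ 2 := by
  rw [pow_two]
  conv_rhs => arg 2; rw [← index_conj hHV a h]
  refine le_trans (Subgroup.relIndex_le_of_le_left ?_ Subgroup.index_ne_zero_of_finite) Subgroup.relIndex_inf_le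
  rintro v ⟨⟨hv, ha⟩, -, hb⟩
  replace ha : Commute v (a : G) := Subgroup.mem_centralizer_singleton_iff.mp ha
  replace hb : Commute v ((h * a * h⁻¹ : H) : G) := Subgroup.mem_centralizer_singleton_iff.mp hb
  refine ⟨hv, Subgroup.mem_centralizer_singleton_iff.mpr ?_⟩
  rw [Subgroup.coe_pow, Subgroup.coe_mul]
  exact ((ha.mul_right hb).pow_right e).eq

omit [Fact p.Prime] in
/-- A subgroup moves at least as much as each of its elements. -/
theorem index_elem_le {A : Subgroup G} {a : G} (ha : a ∈ A) :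
    (V ⊓ Subgroup.centralizer ({a} : Set G)).relIndex V ≤ (V ⊓ Subgroup.centralizer (A : Set G)).relIndex V :=
  Subgroup.relIndex_le_of_le_left (inf_le_inf_left V (Subgroup.centralizer_le (Set.singleton_subset_iff.mpr ha)))
    Subgroup.index_ne_zero_of_finite

omit [Fact p.Prime] in
theorem relIndex_le_card (K : Subgroup G) : K.relIndex V ≤ Nat.card V :=
  Nat.le_of_dvd Nat.card_pos (Subgroup.index_dvd_card _)

/-- `p`-elements outside the kernel. -/
theorem map_ne_one {Q : Type*} [Group Q] {X : Type*} [Group X] [Finite X] (f : X →* Q)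
    (hker : (Nat.card f.ker).Coprime p) {s : X} (hs : ∃ i, s ^ p ^ i = 1) (hs1 : s ≠ 1) : f s ≠ 1 := by
  intro e
  obtain ⟨i, hi⟩ := hs
  have h1 : orderOf s ∣ p ^ i := orderOf_dvd_of_pow_eq_one hi
  have h2 : orderOf s ∣ Nat.card f.ker :=
    (Subgroup.orderOf_mk s (show s ∈ f.ker from e)) ▸ orderOf_dvd_natCard _
  exact hs1 (orderOf_eq_one_iff.mp (Nat.eq_one_of_dvd_coprimes (hker.pow_right i) h2 h1))

section PSL

open Matrix
open scoped MatrixGroups
open CfsgLib.SL2 (up lo proj)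

variable {F : Type*} [Field F] [Fintype F] {n : ℕ} [CharP F p]

/-- An element of prime power order whose order forces dimension `2n`. -/
theorem exists_big_element (hF : Fintype.card F = p ^ n) (hn : 2 ≤ n ∨ p = 2) :
    ∃ r k : ℕ, r.Prime ∧ r ≠ p ∧ Odd r ∧ 0 < k ∧ (∀ j, 0 < j → p ^ j ≡ 1 [MOD r ^ k] → 2 * n ≤ j) ∧
      ∃ z : SL(2, F), orderOf z = r ^ k := by
  have hp := (Fact.out : p.Prime)
  have hn0 : n ≠ 0 := by
    rintro rfl
    have := Fintype.one_lt_card (α := F)
    rw [hF] at this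
    simp at this
  have hcard : Nat.card SL(2, F) = p ^ n * ((p ^ n - 1) * (p ^ n + 1)) := by
    rw [CfsgLib.SL2.card_SL_two', Nat.card_eq_fintype_card, hF]
  by_cases h6 : p = 2 ∧ 2 * n = 6
  · obtain ⟨rfl, h6⟩ := h6
    obtain rfl : n = 3 := by omega
    refine ⟨3, 2, Nat.prime_three, by norm_num, by decide, by norm_num, fun j hj0 hj => ?_, ?_⟩
    · by_contra hlt
      push Not at hlt
      interval_cases j <;> revert hj <;> decide
    · haveI := Fact.mk Nat.prime_three
      obtain ⟨y, hy⟩ := exists_prime_orderOf_dvd_card' (G := SL(2, F)) 3 (by rw [hcard]; norm_num)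
      have hreg : CfsgLib.SL2.Regular y := by
        by_contra h
        have h1 := orderOf_dvd_of_pow_eq_one (CfsgLib.SL2.pow_two_mul_char_of_not_regular h 2)
        rw [hy] at h1
        norm_num at h1
      obtain ⟨hc, hcc⟩ := CfsgLib.SL2.cent_regular hreg
      have h3 := CfsgLib.SL2.orderOf_dvd_card_cent y
      rw [Nat.card_eq_fintype_card (α := F), hF] at hcc
      obtain ⟨gg, hgg⟩ := hc.exists_ofOrder_eq_natCard
      refine ⟨gg, ?_⟩
      rw [Subgroup.orderOf_coe, hgg]
      rw [hy] at h3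
      rcases hcc with h | h
      · rw [h] at h3; norm_num at h3
      · rw [h]; norm_num
  · obtain ⟨r, hr, hrd, hrprim⟩ := CfsgLib.NumberTheory.exists_primitive_prime (a := p) (n := 2 * n)
      hp.one_lt (by omega) h6 (by
        rintro ⟨h1, m, hm⟩
        obtain rfl : p = 2 := hn.resolve_left (by omega)
        rcases m with _ | _ | m <;> simp [pow_succ] at hm; omega)
    have hpp : 1 ≤ p ^ n := Nat.one_le_pow _ _ hp.pos
    have hrd' : r ∣ p ^ n + 1 := by
      have h2 : p ^ (2 * n) - 1 = (p ^ n + 1) * (p ^ n - 1) := by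
        rw [← Nat.sq_sub_sq, one_pow, ← pow_mul, mul_comm]
      rw [h2] at hrd
      exact ((Nat.Prime.dvd_mul hr).mp hrd).resolve_right (hrprim n (by omega) (by omega))
    have hrp : r ≠ p := by
      rintro rfl
      have := (Nat.dvd_add_right (dvd_pow_self r hn0)).mp hrd'
      exact hp.one_lt.ne' (Nat.dvd_one.mp this)
    have hr2 : r ≠ 2 := by
      rintro rfl
      refine hrprim n (by omega) (by omega) ?_
      have := Nat.dvd_sub hrd' (dvd_refl 2)
      rwa [show p ^ n + 1 - 2 = p ^ n - 1 by omega] at this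
    refine ⟨r, 1, hr, hrp, hr.odd_of_ne_two hr2, one_pos, fun j hj0 hj => ?_, ?_⟩
    · by_contra hlt
      push Not at hlt
      rw [pow_one] at hj
      exact hrprim j hj0 hlt ((Nat.modEq_iff_dvd' (Nat.one_le_pow _ _ hp.pos)).mp hj.symm)
    · haveI := Fact.mk hr
      obtain ⟨z, hz⟩ := exists_prime_orderOf_dvd_card' (G := SL(2, F)) r
        (by rw [hcard]; exact (hrd'.mul_left _).mul_left _)
      exact ⟨z, by rw [pow_one, hz]⟩

omit [CharP F p] in
theorem orderOf_proj {x : SL(2, F)} {m : ℕ} (hx : orderOf x = m) (hm : Odd m) : orderOf (proj x) = m := by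
  refine Nat.dvd_antisymm (hx ▸ orderOf_map_dvd _ x) ?_
  have h1 : x ^ orderOf (proj x) ∈ Subgroup.center SL(2, F) :=
    (CfsgLib.SL2.proj_eq_one_iff _).mp (by rw [map_pow, pow_orderOf_eq_one])
  have h2 : (x ^ orderOf (proj x)) ^ 2 = 1 := by
    have := pow_card_eq_one' (x := (⟨_, h1⟩ : Subgroup.center SL(2, F)))
    rw [CfsgLib.SL2.card_center] at this
    have h3 := congrArg Subtype.val this
    simp only [Subgroup.coe_pow, OneMemClass.coe_one] at h3
    rcases (Nat.dvd_prime Nat.prime_two).mp (Nat.gcd_dvd_left 2 (Nat.card F - 1)) with e | e <;>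
      rw [e] at h3 <;> simp_all
  rw [← pow_mul] at h2
  have h3 := orderOf_dvd_of_pow_eq_one h2
  rw [hx] at h3
  exact (hm.coprime_two_right).dvd_of_dvd_mul_right h3

variable (hV : IsPGroup p V) (hHV : H ≤ Subgroup.normalizer (V : Set G))
  (hf : H ⊓ Subgroup.centralizer (V : Set G) = ⊥) (hF : Fintype.card F = p ^ n) (hn : 2 ≤ n ∨ p = 2)
  (f : H →* ProjectiveSpecialLinearGroup (Fin 2) F) (hsurj : Function.Surjective f)
  (hker : (Nat.card f.ker).Coprime p)

include hV hHV hf hF hn hsurj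

theorem psl_card_ge : p ^ (2 * n) ≤ Nat.card V := by
  obtain ⟨r, k, hr, hrp, hro, hk, hord, z, hz⟩ := exists_big_element hF hn
  haveI := Fact.mk hr
  obtain ⟨zz, hzz⟩ := hsurj (proj z)
  exact (index_ge hV hHV hf f zz hrp hk (by rw [hzz, orderOf_proj hz hro.pow]) hord).trans (relIndex_le_card _)

include hker

theorem psl_elem_ge {s : H} (hs : ∃ i, s ^ p ^ i = 1) (hs1 : s ≠ 1) :
    p ^ n ≤ (V ⊓ Subgroup.centralizer ({(s : G)} : Set G)).relIndex V := by
  classical
  obtain ⟨r, k, hr, hrp, hro, hk, hord, z, hz⟩ := exists_big_element hF hn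
  haveI := Fact.mk hr
  have hfs1 := map_ne_one f hker hs hs1
  obtain ⟨i, hi⟩ := hs
  have hpg : IsPGroup p (Subgroup.zpowers (f s)) := by
    rintro ⟨_, j, rfl⟩
    refine ⟨i, Subtype.ext ?_⟩
    show (f s ^ j) ^ p ^ i = 1
    rw [← zpow_natCast, ← _root_.zpow_mul, mul_comm, _root_.zpow_mul, zpow_natCast, ← map_pow, hi, map_one, _root_.one_zpow]
  obtain ⟨P, hP⟩ := hpg.exists_le_sylow
  let S0 : Sylow p SL(2, F) := Classical.arbitrary _
  obtain ⟨w, hw⟩ := MulAction.exists_smul_eq (ProjectiveSpecialLinearGroup (Fin 2) F)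
    (S0.mapSurjective CfsgLib.SL2.proj_surjective) P
  obtain ⟨g, hg⟩ := CfsgLib.SL2.exists_conj_upperSL p S0
  have hmem := hP (Subgroup.mem_zpowers (f s))
  rw [← hw] at hmem
  obtain ⟨y0, ⟨y, hy, rfl⟩, hy0⟩ := hmem
  rw [SetLike.mem_coe, hg] at hy
  obtain ⟨_, ⟨σ, rfl⟩, rfl⟩ := hy
  obtain ⟨w, rfl⟩ := CfsgLib.SL2.proj_surjective w
  have hfs : f s = proj (w * g * up σ.toAdd * (w * g)⁻¹) := by
    rw [← hy0]
    show proj w * proj (g * up σ.toAdd * g⁻¹) * (proj w)⁻¹ = _
    simp only [map_mul, map_inv, _root_.mul_inv_rev, mul_assoc]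
  have hσ : σ.toAdd ≠ 0 := by
    intro e
    rw [e, CfsgLib.SL2.up_zero, mul_one, mul_inv_cancel, map_one] at hfs
    exact hfs1 hfs
  obtain ⟨c, hc⟩ := Cfsg.Agent.S2788.two_conjugates p hz hro.pow (Nat.one_lt_pow hk.ne' hr.one_lt)
    (((Nat.coprime_primes hr (Fact.out : p.Prime)).mpr hrp).pow_left k) hσ
  obtain ⟨h, hh⟩ := hsurj (proj (w * g * c * (w * g)⁻¹))
  have hfx : f ((s * (h * s * h⁻¹)) ^ 2) =
      proj (w * g * (up σ.toAdd * (c * up σ.toAdd * c⁻¹)) ^ 2 * (w * g)⁻¹) := by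
    rw [← conj_pow, map_pow, map_pow, map_mul, map_mul, map_mul, map_inv, hh, hfs]
    simp only [map_mul, map_inv]
    group
  have h1 := (index_ge hV hHV hf f _ hrp hk (by
    rw [hfx, orderOf_proj ?_ hro.pow]
    rw [← MulAut.conj_apply, MulEquiv.orderOf_eq, hc]) hord).trans (index_pair hHV s h 2)
  rw [mul_comm 2 n, pow_mul] at h1
  exact (Nat.pow_le_pow_iff_left two_ne_zero).mp h1

end PSL

end CfsgLib.ModuleIndex
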