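import Cfsg.Agent.Lib.ModuleIndex.UnitaryThree
import Cfsg.Agent.Lib.ModuleIndex.Basic

/-!
Bounds for faithful modules of groups with a quotient `PSU_3(q)` in the characteristic of the module.
-/

set_option autoImplicit false
set_option linter.style.haveILetI false

namespace CfsgLib.ModuleIndex.UThree

open Matrix Cfsg
open CfsgLib.Classical.Herm
open CfsgLib.ClassicalAut (Unitary.Conj Unitary.herm_apply)
open CfsgLib.Classical.URegGen (exists_hb)
open CfsgLib.Classical.URoot (Par pmul pinv pone IsCoord coord_fix card_fix)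

variable {F : Type*} [Field F] [Finite F] {q : ℕ} (K : Unitary.Conj F q) {p : ℕ} [hp : Fact p.Prime]

/-- The quotient map. -/
abbrev mk : SU 3 F q →* PSU 3 F q := QuotientGroup.mk' (Subgroup.center (SU 3 F q))

include K in
theorem card_SU_three : Nat.card (SU 3 F q) = q ^ 3 * ((q ^ 2 - 1) * (q ^ 3 + 1)) := by
  have hGU := card_GU K (n := 3)
  norm_num [Finset.prod_range_succ, Nat.even_iff, -Nat.card_eq_fintype_card] at hGU
  have hSU := card_SU K (n := 3) (by norm_num)
  rw [hGU] at hSU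
  refine Nat.eq_of_mul_eq_mul_left (Nat.succ_pos q) (hSU.trans ?_)
  rw [Nat.succ_eq_add_one]
  ring

theorem card_par (K : Unitary.Conj F q) : Nat.card (Par K) = q ^ 3 := by
  obtain ⟨δ, hδ0, hδ⟩ := exists_skew (F := F) K
  have hδb : K.bar δ = -δ := by linear_combination hδ
  have hfib : ∀ a : F, Nat.card {b : F // a * K.bar a + b + K.bar b = 0} = q := by
    intro a
    obtain ⟨y, hy⟩ := K.exists_trace
    set v := -(a * K.bar a) * y / (y + K.bar y)
    have hv : a * K.bar a + v + K.bar v = 0 := by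
      simp only [v, map_div₀, map_mul, map_neg, map_add, K.bar_bar, add_comm (K.bar y) y]
      field_simp
      ring
    refine (Nat.card_congr (Equiv.symm ?_)).trans (card_fix K)
    refine
      { toFun := fun x => ⟨v + δ * x.1, by rw [map_add, map_mul, hδb, x.2]; linear_combination hv⟩
        invFun := fun b => ⟨(b.1 - v) / δ, by
          rw [map_div₀, map_sub, hδb]
          field_simp
          linear_combination hv - b.2⟩
        left_inv := fun x => Subtype.ext (by show (v + δ * x.1 - v) / δ = x.1; field_simp; ring)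
        right_inv := fun b => Subtype.ext (by show v + δ * ((b.1 - v) / δ) = b.1; field_simp; ring) }
  have := Fintype.ofFinite F
  rw [Nat.card_congr (Equiv.subtypeProdEquivSigmaSubtype
    fun a b : F => a * K.bar a + b + K.bar b = 0), Nat.card_sigma]
  simp only [hfib, Finset.sum_const, Finset.card_univ, smul_eq_mul, ← Nat.card_eq_fintype_card, K.card]
  ring

include K in
/-- A central element of a Sylow subgroup in the characteristic comes from a transvection. -/
theorem center_sylow {n : ℕ} (hq : q = p ^ n) (hn : n ≠ 0) (P : Sylow p (PSU 3 F q)) {t : PSU 3 F q}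
    (ht : t ∈ (P : Subgroup (PSU 3 F q))) (hc : ∀ y ∈ (P : Subgroup (PSU 3 F q)), t * y = y * t) (h1 : t ≠ 1) :
    ∃ (g : SU 3 F q) (v : Fin 3 → F) (c : F), IsT K g v c ∧ v ≠ 0 ∧ c ≠ 0 ∧ IsConj (mk g) t := by
  classical
  obtain ⟨B⟩ := exists_hb K 1
  have hE : B.E 0 ≠ 0 := fun h => by
    have := B.fe 0 0 one_pos one_pos
    rw [h, h_zero_right K, if_pos rfl] at this
    exact zero_ne_one this
  choose φ hφ using fun x : Par K => CfsgLib.Classical.URegGen.exists_sgE K B le_rfl x.2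
  have hone : φ (pone K) = 1 := by
    refine CfsgLib.Classical.Elation.sg_unique K (hφ _) ?_
    simpa [pone] using CfsgLib.Classical.Elation.sg_one K (B.ee 0 0)
  have hmul : ∀ x y, φ x * φ y = φ (pmul K x y) := by
    intro x y
    refine CfsgLib.Classical.Elation.sg_unique K ?_ (hφ _)
    have := CfsgLib.Classical.Elation.sg_mul K (hφ x) (hφ y)
    rw [h_smul_left K, h_smul_right K, B.zz, ← add_smul] at this
    convert this using 2
    · simp [pmul]; ring
    · simp [pmul, K.bar_bar]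
  have hinv : ∀ x, (φ x)⁻¹ = φ (pinv K x) := by
    intro x
    refine CfsgLib.Classical.Elation.sg_unique K ?_ (hφ _)
    convert CfsgLib.Classical.Elation.sg_inv K (hφ x) using 2
    · simp [pinv]
    · rfl
  have hφi : Function.Injective φ := by
    intro x y he
    obtain ⟨-, hf, hz'⟩ := CfsgLib.Classical.URegGen.appE K B (hφ x)
    obtain ⟨-, hf', hz''⟩ := CfsgLib.Classical.URegGen.appE K B (hφ y)
    rw [he, hf'] at hf
    rw [he, hz''] at hz'
    have ha : y.1.1 = x.1.1 := smul_left_injective F hE (add_left_cancel hz')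
    rw [ha] at hf
    exact Subtype.ext (Prod.ext ha (smul_left_injective F hE (add_left_cancel hf))).symm
  have hinj : Function.Injective fun x => mk (φ x) := by
    intro x y hxy
    have hu : φ (pmul K (pinv K y) x) ∈ Subgroup.center (SU 3 F q) := by
      rw [← hmul, ← hinv]
      exact QuotientGroup.eq.mp hxy.symm
    obtain ⟨c, hc'⟩ := (center_iff K (by norm_num) _).mp hu
    have h2 : c = 1 := by
      have := (CfsgLib.Classical.URegGen.appE K B (hφ (pmul K (pinv K y) x))).1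
      rw [app, hc', smul_mulVec, one_mulVec] at this
      exact smul_left_injective F hE (this.trans (one_smul F _).symm)
    rw [h2, one_smul] at hc'
    have h1' : φ (pmul K (pinv K y) x) = 1 := Subtype.ext (Subtype.ext hc')
    refine hφi ?_
    rwa [← hmul, ← hinv, inv_mul_eq_one, eq_comm] at h1'
  let U : Subgroup (PSU 3 F q) :=
    { carrier := Set.range fun x => mk (φ x)
      one_mem' := ⟨pone K, by simp [hone]⟩
      mul_mem' := by
        rintro _ _ ⟨x, rfl⟩ ⟨y, rfl⟩
        exact ⟨pmul K x y, by simp [← hmul]⟩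
      inv_mem' := by
        rintro _ ⟨x, rfl⟩
        exact ⟨pinv K x, by simp [← hinv]⟩ }
  have hUc : Nat.card U = p ^ (n * 3) := by
    rw [pow_mul, ← hq, ← card_par K]
    exact (Nat.card_congr (Equiv.ofInjective _ hinj)).symm
  have hidx : ¬ p ∣ U.index := by
    intro hd
    have h := Subgroup.card_eq_card_quotient_mul_card_subgroup (Subgroup.center (SU 3 F q))
    rw [card_SU_three K, ← Subgroup.index_mul_card U, hUc,
      show q ^ 3 = p ^ (n * 3) by rw [hq, ← pow_mul], mul_comm U.index, mul_assoc] at h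
    have h2 := Nat.eq_of_mul_eq_mul_left (pow_pos hp.out.pos _) h
    have h3 : p ∣ (q ^ 2 - 1) * (p ^ (n * 3) + 1) := h2 ▸ hd.mul_right _
    have hpn : p ∣ q := hq ▸ dvd_pow_self p hn
    rcases hp.out.dvd_mul.mp h3 with h4 | h4
    · have := Nat.dvd_sub (hpn.trans (dvd_pow_self _ two_ne_zero)) h4
      rw [Nat.sub_sub_self (Nat.one_le_pow _ _ (hq ▸ pow_pos hp.out.pos _))] at this
      exact hp.out.one_lt.ne' (Nat.dvd_one.mp this)
    · exact hp.out.one_lt.ne' (Nat.dvd_one.mp ((Nat.dvd_add_right (dvd_pow_self p (by omega))).mp h4))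
  let U' : Sylow p (PSU 3 F q) := (IsPGroup.of_card hUc).toSylow hidx
  obtain ⟨w, hw⟩ := MulAction.exists_smul_eq (PSU 3 F q) U' P
  have hPU : ∀ y : PSU 3 F q, y ∈ U ↔ w * y * w⁻¹ ∈ (P : Subgroup (PSU 3 F q)) := by
    intro y
    rw [← hw, Sylow.coe_subgroup_smul, Subgroup.mem_pointwise_smul_iff_inv_smul_mem]
    simp [U', mul_assoc]
  set ψ : Par K → U := fun x => ⟨mk (φ x), x, rfl⟩
  have hψ : IsCoord K ψ := ⟨⟨fun x y e => hinj (congrArg Subtype.val e), fun ⟨u, x, hx⟩ => ⟨x, Subtype.ext hx⟩⟩,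
    fun x y => Subtype.ext (by simp [ψ, ← hmul])⟩
  have ht' : w⁻¹ * t * w ∈ U := (hPU _).mpr (by simpa [mul_assoc] using ht)
  obtain ⟨x, hx⟩ := ht'
  have hcen : ψ x ∈ Subgroup.center U := by
    rw [Subgroup.mem_center_iff]
    rintro ⟨y, hy⟩
    apply Subtype.ext
    show y * mk (φ x) = mk (φ x) * y
    have h := hc _ ((hPU y).mp hy)
    have hx' : mk (φ x) = w⁻¹ * t * w := hx
    rw [hx']
    calc y * (w⁻¹ * t * w) = w⁻¹ * (w * y * w⁻¹ * t) * w := by group
      _ = w⁻¹ * (t * (w * y * w⁻¹)) * w := by rw [h]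
      _ = _ := by group
  have ha : x.1.1 = 0 := (coord_fix K hψ x).mp hcen
  have hT : IsT K (φ x) (B.E 0) x.1.2 := by
    rw [CfsgLib.Classical.Elation.isT_iff]
    have := hφ x
    rwa [ha, map_zero, neg_zero, zero_smul] at this
  refine ⟨φ x, B.E 0, x.1.2, hT, hE, fun hb => h1 ?_, isConj_iff.mpr ⟨w, ?_⟩⟩
  · have hx1 : x = pone K := Subtype.ext (Prod.ext ha hb)
    have hx' : mk (φ x) = w⁻¹ * t * w := hx
    rw [hx1, hone, map_one] at hx'
    calc t = w * (w⁻¹ * t * w) * w⁻¹ := by group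
      _ = 1 := by rw [← hx']; group
  · have hx' : mk (φ x) = w⁻¹ * t * w := hx
    rw [hx']; group

include K in
/-- A primitive prime and an element of that order, three transvections of which give the same order. -/
theorem exists_data {n : ℕ} (hq : q = p ^ n) (hex : ¬ (p = 2 ∧ n = 1)) :
    ∃ r : ℕ, r.Prime ∧ r ≠ p ∧ (∀ j, 0 < j → p ^ j ≡ 1 [MOD r] → 6 * n ≤ j) ∧
      ∀ {v : Fin 3 → F} {c : F} {g : SU 3 F q}, IsT K g v c → v ≠ 0 → c ≠ 0 →
        ∃ a₁ a₂ a₃ : PSU 3 F q, (a₁ = 1 ∨ IsConj (mk g) a₁) ∧ (a₂ = 1 ∨ IsConj (mk g) a₂) ∧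
          (a₃ = 1 ∨ IsConj (mk g) a₃) ∧ orderOf (a₁ * a₂ * a₃) = r := by
  classical
  cases nonempty_fintype F
  have hn0 : n ≠ 0 := by
    intro h
    have := K.two_le
    rw [hq, h, pow_zero] at this
    omega
  obtain ⟨r, hr, hrd, hprim⟩ := CfsgLib.NumberTheory.exists_primitive_prime (a := p) (n := 6 * n)
    hp.out.one_lt (by omega) (fun h => hex ⟨h.1, by omega⟩) (fun h => by omega)
  haveI := Fact.mk hr
  have hrp : r ≠ p := by
    rintro rfl
    have := Nat.dvd_sub (dvd_pow_self r (show 6 * n ≠ 0 by omega)) hrd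
    rw [Nat.sub_sub_self (Nat.one_le_pow _ _ hr.pos)] at this
    exact hr.one_lt.ne' (Nat.dvd_one.mp this)
  have hcop : p.Coprime r := (Nat.coprime_primes hp.out hr).mpr (Ne.symm hrp)
  have hord : ∀ j, 0 < j → p ^ j ≡ 1 [MOD r] → 6 * n ≤ j := by
    intro j hj0 hj
    by_contra hlt
    push Not at hlt
    exact hprim j hj0 hlt ((Nat.modEq_iff_dvd' (Nat.one_le_pow _ _ hp.out.pos)).mp hj.symm)
  have h6 : p ^ (6 * n) ≡ 1 [MOD r] := ((Nat.modEq_iff_dvd' (Nat.one_le_pow _ _ hp.out.pos)).mpr hrd).symm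
  refine ⟨r, hr, hrp, hord, ?_⟩
  have h3 : orderOf (ZMod.unitOfCoprime _ (hcop.pow_left (2 * n))) = 3 := by
    haveI := Fact.mk Nat.prime_three
    refine orderOf_eq_prime (Units.ext ?_) fun h => ?_
    · rw [Units.val_pow_eq_pow_val, ZMod.coe_unitOfCoprime, Units.val_one, ← Nat.cast_pow, ← pow_mul,
        show 2 * n * 3 = 6 * n by ring]
      have := (ZMod.natCast_eq_natCast_iff _ _ r).mpr h6
      simpa using this
    · have h' := congrArg Units.val h
      rw [ZMod.coe_unitOfCoprime, Units.val_one] at h'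
      have := hord (2 * n) (by omega) ((ZMod.natCast_eq_natCast_iff _ _ r).mp (by simpa using h'))
      omega
  have hr3 : r ≠ 3 := by
    rintro rfl
    have hp3 : (p : ZMod 3) ≠ 0 := fun h => hrp ((Nat.prime_dvd_prime_iff_eq hr hp.out).mp ((ZMod.natCast_eq_zero_iff _ _).mp h))
    have h2 : ((p ^ 2 : ℕ) : ZMod 3) = ((1 : ℕ) : ZMod 3) := by
      push_cast
      exact ZMod.pow_card_sub_one_eq_one hp3
    have := hord 2 (by norm_num) ((ZMod.natCast_eq_natCast_iff _ _ 3).mp h2)
    omega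
  have hdiv : r ∣ Nat.card (SU 3 F q) := by
    rw [card_SU_three K]
    refine (Dvd.dvd.mul_left ?_ _).mul_left _
    have e : p ^ (6 * n) - 1 = (q ^ 3 + 1) * (q ^ 3 - 1) := by
      rw [← Nat.sq_sub_sq, one_pow, hq, ← pow_mul, ← pow_mul, show n * (3 * 2) = 6 * n by ring]
    rw [e] at hrd
    refine (hr.dvd_mul.mp hrd).resolve_right ?_
    rw [hq, ← pow_mul]
    exact hprim _ (by omega) (by omega)
  obtain ⟨z, hz⟩ := exists_prime_orderOf_dvd_card' r hdiv
  haveI : CharP F p := by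
    obtain ⟨p', hchar⟩ := CharP.exists F
    haveI := hchar
    obtain ⟨k, hk1, hk2⟩ := FiniteField.card F p'
    have hd : p ∣ p' ^ (k : ℕ) := by
      rw [← hk2, ← Nat.card_eq_fintype_card, K.card, hq, ← pow_mul]
      exact dvd_pow_self _ (by omega)
    exact ((Nat.prime_dvd_prime_iff_eq hp.out hk1).mp (hp.out.dvd_of_dvd_pow hd)) ▸ hchar
  intro v c g hg hv hc
  have hFc : Fintype.card F = q ^ 2 := by rw [← Nat.card_eq_fintype_card, K.card]
  obtain ⟨g₁, g₂, g₃, v₁, v₂, v₃, c₁, c₂, c₃, h₁, h₂, h₃, hc₁, hc₂, hc₃, htr⟩ :=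
    exists_three (p := p) K (mat z).trace
  have hM : orderOf (g₁ * g₂ * g₃) = r := orderOf_of_trace (p := p) K hq hcop h3 hz htr
  have hconj : ∀ {g' : SU 3 F q} {v' : Fin 3 → F} {c' : F}, IsT K g' v' c' → c' ≠ 0 →
      mk g' = 1 ∨ IsConj (mk g) (mk g') := by
    intro g' v' c' hg' hc'
    by_cases hv' : v' = 0
    · left
      have : g' = 1 := ext_app fun x => by rw [hg'.2.2, hv', smul_zero, add_zero, app_one]
      rw [this, map_one]
    · exact Or.inr (MonoidHom.map_isConj mk (CfsgLib.Classical.UnitaryTransvectionClass.su_transvections hFc le_rfl g g'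
        (isT_rank K hg hv hc) (isT_rank K hg' hv' hc')))
  refine ⟨mk g₁, mk g₂, mk g₃, hconj h₁ hc₁, hconj h₂ hc₂, hconj h₃ hc₃, ?_⟩
  rw [← map_mul, ← map_mul]
  set M := g₁ * g₂ * g₃
  refine orderOf_eq_prime (by rw [← map_pow, ← hM, pow_orderOf_eq_one, map_one]) fun h => ?_
  have hMc : M ∈ Subgroup.center (SU 3 F q) := (QuotientGroup.eq_one_iff M).mp h
  have hd := Subgroup.orderOf_dvd_natCard _ hMc
  rw [hM, card_center K (by norm_num)] at hd
  exact hr3 ((Nat.prime_dvd_prime_iff_eq hr Nat.prime_three).mp (hd.trans (Nat.gcd_dvd_left _ _)))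

section Module

variable {G : Type*} [Group G] [Finite G] {V H : Subgroup G}

omit hp in
theorem index_mul_le (a b : G) :
    (V ⊓ Subgroup.centralizer ({a * b} : Set G)).relIndex V ≤
      (V ⊓ Subgroup.centralizer ({a} : Set G)).relIndex V *
        (V ⊓ Subgroup.centralizer ({b} : Set G)).relIndex V := by
  refine le_trans (Subgroup.relIndex_le_of_le_left ?_ Subgroup.index_ne_zero_of_finite) Subgroup.relIndex_inf_le
  rintro v ⟨⟨hv, ha⟩, -, hb⟩
  replace ha : Commute v a := Subgroup.mem_centralizer_singleton_iff.mp ha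
  replace hb : Commute v b := Subgroup.mem_centralizer_singleton_iff.mp hb
  exact ⟨hv, Subgroup.mem_centralizer_singleton_iff.mpr (ha.mul_right hb).eq⟩

include K in
theorem psu_bounds (hV : IsPGroup p V) (hHV : H ≤ Subgroup.normalizer (V : Set G))
    (hf : H ⊓ Subgroup.centralizer (V : Set G) = ⊥) {n : ℕ} (hq : q = p ^ n) (hex : ¬ (p = 2 ∧ n = 1))
    (f : H →* PSU 3 F q) (hsurj : Function.Surjective f) (hker : (Nat.card f.ker).Coprime p) (S : Sylow p H) :
    q ^ 6 ≤ Nat.card V ∧ ∀ s ∈ (S : Subgroup H), (∀ y ∈ (S : Subgroup H), s * y = y * s) → s ≠ 1 →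
      q ^ 2 ≤ (V ⊓ Subgroup.centralizer ({(s : G)} : Set G)).relIndex V := by
  classical
  obtain ⟨r, hr, hrp, hord, hdata⟩ := exists_data K hq hex
  haveI := Fact.mk hr
  have hn : n ≠ 0 := by
    intro h
    have := K.two_le
    rw [hq, h, pow_zero] at this
    omega
  have big : ∀ z : H, orderOf (f z) = r →
      q ^ 6 ≤ (V ⊓ Subgroup.centralizer ({(z : G)} : Set G)).relIndex V := by
    intro z hz
    rw [hq, ← pow_mul, mul_comm]
    exact index_ge hV hHV hf f z hrp one_pos (by rw [pow_one, hz]) (fun j hj0 hj => hord j hj0 (by rwa [pow_one] at hj))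
  constructor
  · obtain ⟨B⟩ := exists_hb K 1
    obtain ⟨δ, hδ0, hδ⟩ := exists_skew (F := F) K
    obtain ⟨g, hg⟩ := exists_T K (v := B.E 0) (c := δ) (B.ee 0 0) hδ
    have hE : B.E 0 ≠ 0 := fun h => by
      have := B.fe 0 0 one_pos one_pos
      rw [h, h_zero_right K, if_pos rfl] at this
      exact zero_ne_one this
    obtain ⟨a₁, a₂, a₃, -, -, -, ha⟩ := hdata hg hE hδ0
    obtain ⟨z, hz⟩ := hsurj (a₁ * a₂ * a₃)
    exact (big z (by rw [hz, ha])).trans (relIndex_le_card _)
  · intro s hs hc hs1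
    set i := (V ⊓ Subgroup.centralizer ({(s : G)} : Set G)).relIndex V
    have hi0 : 1 ≤ i := Nat.pos_of_ne_zero Subgroup.index_ne_zero_of_finite
    obtain ⟨k, hk⟩ := S.2 ⟨s, hs⟩
    have hfs1 : f s ≠ 1 := map_ne_one f hker ⟨k, congrArg Subtype.val hk⟩ hs1
    have hmem : f s ∈ ((S.mapSurjective hsurj : Sylow p (PSU 3 F q)) : Subgroup (PSU 3 F q)) :=
      Subgroup.mem_map_of_mem f hs
    obtain ⟨g, v, c, hg, hv, hc0, hgs⟩ := center_sylow K hq hn (S.mapSurjective hsurj) hmem (by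
      rintro _ ⟨y, hy, rfl⟩
      rw [← map_mul, ← map_mul, hc y hy]) hfs1
    obtain ⟨a₁, a₂, a₃, h₁, h₂, h₃, ha⟩ := hdata hg hv hc0
    have lift : ∀ a, a = 1 ∨ IsConj (mk g) a → ∃ x : H, f x = a ∧
        (V ⊓ Subgroup.centralizer ({(x : G)} : Set G)).relIndex V ≤ i := by
      rintro a (rfl | ha)
      · refine ⟨1, map_one f, le_trans (le_of_eq ?_) hi0⟩
        rw [Subgroup.relIndex_eq_one]
        exact fun v hv => ⟨hv, Subgroup.mem_centralizer_singleton_iff.mpr (by simp)⟩
      · obtain ⟨w, hw⟩ := isConj_iff.mp (hgs.symm.trans ha)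
        obtain ⟨h, rfl⟩ := hsurj w
        exact ⟨h * s * h⁻¹, by rw [map_mul, map_mul, map_inv, hw], (index_conj hHV s h).le⟩
    obtain ⟨x₁, hx₁, hi₁⟩ := lift _ h₁
    obtain ⟨x₂, hx₂, hi₂⟩ := lift _ h₂
    obtain ⟨x₃, hx₃, hi₃⟩ := lift _ h₃
    have h6 := big (x₁ * x₂ * x₃) (by rw [map_mul, map_mul, hx₁, hx₂, hx₃, ha])
    refine (Nat.pow_le_pow_iff_left (show 3 ≠ 0 by norm_num)).mp ?_
    calc (q ^ 2) ^ 3 = q ^ 6 := by ring
      _ ≤ _ := h6
      _ ≤ i * i * i := by
        rw [Subgroup.coe_mul, Subgroup.coe_mul]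
        exact (index_mul_le _ _).trans (Nat.mul_le_mul ((index_mul_le _ _).trans (Nat.mul_le_mul hi₁ hi₂)) hi₃)
      _ = i ^ 3 := by ring

end Module

end CfsgLib.ModuleIndex.UThree
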