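import Cfsg.Agent.Lib.Classical.UnitaryRootGroup
import Cfsg.Agent.Lib.Classical.UnitaryTransvectionClass
import Cfsg.Agent.Lib.Classical.UnitaryStab
import Cfsg.Agent.Lib.NumberTheory.Zsigmondy

/-!
In `SU_3(q)` three transvections have a product of every trace; in particular a product of
primitive prime order.
-/

set_option autoImplicit false
set_option linter.style.haveILetI false

namespace CfsgLib.ModuleIndex.UThree

open Matrix Cfsg Polynomial
open CfsgLib.Classical.Herm
open CfsgLib.ClassicalAut (Unitary.Conj Unitary.herm_apply)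

variable {F : Type*} [Field F] [Finite F] {q : ℕ} (K : Unitary.Conj F q) {p : ℕ} [hp : Fact p.Prime]

local notation "H" => hermForm 3 F q

/-- The matrix of an element. -/
abbrev mat (g : SU 3 F q) : Matrix (Fin 3) (Fin 3) F := (g.1 : Matrix (Fin 3) (Fin 3) F)

theorem mat_isT {g : SU 3 F q} {v : Fin 3 → F} {c : F} (h : IsT K g v c) :
    mat g = 1 + c • vecMulVec v (fun j => K.bar (v j)) := by
  refine Matrix.ext_of_mulVec_single fun i => ?_
  exact (h.2.2 _).trans (quasi_apply K v c _).symm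

include K in
theorem isT_rank {g : SU 3 F q} {v : Fin 3 → F} {c : F} (h : IsT K g v c) (hv : v ≠ 0) (hc : c ≠ 0) :
    (mat g - 1).rank = 1 ∧ (mat g - 1) * (mat g - 1) = 0 := by
  rw [mat_isT K h, add_sub_cancel_left]
  constructor
  · refine le_antisymm (by rw [← smul_vecMulVec]; exact Matrix.rank_vecMulVec_le _ _) (Nat.pos_of_ne_zero fun h0 => ?_)
    obtain ⟨i, hi⟩ := Function.ne_iff.mp hv
    have hz : (c • vecMulVec v (fun j => K.bar (v j))).mulVecLin = 0 :=
      LinearMap.range_eq_bot.mp (Submodule.finrank_eq_zero.mp h0)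
    have := congrFun (congrArg (fun f => f (Pi.single i 1)) hz) i
    simp [Matrix.mulVec_single_one, vecMulVec, hc] at this
    exact hi this
  · rw [Matrix.smul_mul, Matrix.mul_smul, vecMulVec_mul_vecMulVec]
    have hh := h.1
    rw [Unitary.herm_apply K] at hh
    rw [show (fun j => K.bar (v j)) ⬝ᵥ v = 0 by rw [dotProduct_comm]; exact hh]
    simp

/-- The trace of a product of three transvections. -/
theorem trace_three {g₁ g₂ g₃ : SU 3 F q} {v₁ v₂ v₃ : Fin 3 → F} {c₁ c₂ c₃ : F}
    (h₁ : IsT K g₁ v₁ c₁) (h₂ : IsT K g₂ v₂ c₂) (h₃ : IsT K g₃ v₃ c₃) :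
    (mat (g₁ * g₂ * g₃)).trace = 3 + c₁ * c₂ * (H v₂ v₁ * H v₁ v₂) + c₁ * c₃ * (H v₃ v₁ * H v₁ v₃)
      + c₂ * c₃ * (H v₃ v₂ * H v₂ v₃) + c₁ * c₂ * c₃ * (H v₂ v₁ * H v₃ v₂ * H v₁ v₃) := by
  show (mat g₁ * mat g₂ * mat g₃).trace = _
  have hd : ∀ u v : Fin 3 → F, (fun j => K.bar (v j)) ⬝ᵥ u = H u v := fun u v => by
    rw [Unitary.herm_apply K, dotProduct]
    exact Finset.sum_congr rfl fun _ _ => mul_comm _ _
  have hd' : ∀ u v : Fin 3 → F, u ⬝ᵥ (fun j => K.bar (v j)) = H u v := fun u v => by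
    rw [dotProduct_comm, hd]
  rw [mat_isT K h₁, mat_isT K h₂, mat_isT K h₃]
  simp only [add_mul, mul_add, Matrix.one_mul, Matrix.mul_one, Matrix.smul_mul, Matrix.mul_smul,
    vecMulVec_mul_vecMulVec, vecMulVec_smul, smul_smul, trace_add, trace_one, trace_smul, trace_vecMulVec,
    Fintype.card_fin, hd, hd', smul_eq_mul, h₁.1, h₂.1, h₃.1]
  push_cast
  ring

theorem charpoly_three (M : Matrix (Fin 3) (Fin 3) F) :
    M.charpoly = X ^ 3 - C M.trace * X ^ 2 + C M.adjugate.trace * X - C M.det := by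
  rw [Matrix.charpoly, Matrix.det_fin_three, Matrix.det_fin_three, Matrix.adjugate_fin_three]
  simp [charmatrix_apply, Matrix.trace, Fin.sum_univ_three]
  ring

include K in
theorem adjugate_trace (g : SU 3 F q) : (mat g).adjugate.trace = K.bar (mat g).trace := by
  set N : Matrix (Fin 3) (Fin 3) F := ((mat g).map K.bar)ᵀ
  have hN : N * mat g = 1 := by
    ext i j
    have h : H (mat g *ᵥ Pi.single j 1) (mat g *ᵥ Pi.single i 1) = H (Pi.single j 1) (Pi.single i 1) := g.2 _ _
    rw [Unitary.herm_apply K, h_single_single K] at h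
    simp only [mulVec_single_one, Matrix.col_apply] at h
    rw [Matrix.mul_apply, Matrix.one_apply]
    calc ∑ k, N i k * mat g k j = ∑ k, mat g k j * K.bar (mat g k i) :=
          Finset.sum_congr rfl fun k _ => mul_comm _ _
      _ = _ := by rw [h]; simp [eq_comm]
  have e : (mat g).adjugate = N := by
    have h1 := congrArg (· * N) (adjugate_mul (mat g))
    rw [show (mat g).det = 1 from g.1.2, one_smul, Matrix.mul_assoc, mul_eq_one_comm.mp hN,
      Matrix.mul_one, Matrix.one_mul] at h1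
    exact h1
  rw [e]
  simp [N, Matrix.trace, map_sum]

include K in
theorem charpoly_eq {g h : SU 3 F q} (e : (mat g).trace = (mat h).trace) :
    (mat g).charpoly = (mat h).charpoly := by
  rw [charpoly_three, charpoly_three, adjugate_trace K, adjugate_trace K, e,
    show (mat g).det = 1 from g.1.2, show (mat h).det = 1 from h.1.2]

omit hp in
include K in
/-- The norm equation behind the trace. -/
theorem exists_params [hp : Fact p.Prime] [CharP F p] (D : F) (hD : K.bar D = D) (hD0 : D ≠ 0) (t : F) :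
    ∃ u X Y : F, u ≠ 0 ∧ K.bar u = u ∧ K.bar X = X ∧ K.bar Y = Y ∧
      (t - (u + X + Y)) * K.bar (t - (u + X + Y)) = -D * u * X * Y := by
  classical
  by_cases h2 : (2 : F) = 0
  · haveI : CharP F 2 := by
      have h := (CharP.cast_eq_zero_iff F p 2).mp (by exact_mod_cast h2)
      exact (Nat.prime_dvd_prime_iff_eq hp.out Nat.prime_two).mp h ▸ ‹CharP F p›
    cases nonempty_fintype F
    set N := (t - 1) * K.bar (t - 1) / (-D)
    obtain ⟨w, hw⟩ := FiniteField.isSquare_of_char_two (ringChar.eq F 2) N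
    have hwf : K.bar w = w := by
      have hN : K.bar N = N := by
        simp only [N, map_div₀, map_mul, map_neg, K.bar_bar, hD, mul_comm]
      have h := congrArg K.bar hw
      rw [hN, map_mul, hw] at h
      have h' : (K.bar w - w) * (K.bar w - w) = 0 := by linear_combination -h + (w * w - K.bar w * w) * h2
      exact sub_eq_zero.mp (mul_self_eq_zero.mp h')
    refine ⟨1, w, w, one_ne_zero, map_one _, hwf, hwf, ?_⟩
    rw [show (1 : F) + w + w = 1 by linear_combination w * h2, mul_one, mul_assoc, ← hw]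
    simp only [N]
    field_simp
  · let K0 : Subfield F := RingHom.eqLocusField (K.bar : F →+* F) (RingHom.id F)
    have hmem : ∀ x : F, x ∈ K0 ↔ K.bar x = x := fun x => Iff.rfl
    cases nonempty_fintype F
    haveI : Fintype K0 := Fintype.ofFinite _
    have hodd : Fintype.card K0 % 2 = 1 := by
      have : ringChar K0 ≠ 2 := by
        intro h
        have h' : ((2 : ℕ) : K0) = 0 := by rw [← h]; exact ringChar.Nat.cast_ringChar
        exact h2 (by rw [← map_ofNat K0.subtype 2, show (2 : K0) = 0 from (by exact_mod_cast h'), map_zero])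
      exact FiniteField.odd_card_of_char_ne_two this
    set u := 4 / D with hu
    have huf : K.bar u = u := by rw [hu, map_div₀, hD, map_ofNat]
    set T := t + K.bar t
    set N := t * K.bar t
    have hT : K.bar T = T := by simp only [T, map_add, K.bar_bar, add_comm]
    have hN : K.bar N = N := by simp only [N, map_mul, K.bar_bar, mul_comm]
    have hb : -(2 * u + T) ∈ K0 := (hmem _).mpr (by simp [huf, hT, map_add, map_mul, map_ofNat])
    have hc : u ^ 2 + N ∈ K0 := (hmem _).mpr (by simp [huf, hN, map_add, map_pow])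
    have h20 : (2 : K0) ≠ 0 := fun h => h2 (by rw [← map_ofNat K0.subtype 2, h, map_zero])
    obtain ⟨k, w, hkw⟩ := FiniteField.exists_root_sum_quadratic
      (f := Polynomial.C (2 : K0) * Polynomial.X ^ 2 + Polynomial.C ⟨_, hb⟩ * Polynomial.X + Polynomial.C ⟨_, hc⟩)
      (g := Polynomial.C (-1 : K0) * Polynomial.X ^ 2) (degree_quadratic h20)
      (degree_C_mul_X_pow 2 (by simp)) hodd
    have e := congrArg (Subtype.val) hkw
    simp at e
    rw [show ((2 : K0) : F) = 2 from map_ofNat K0.subtype 2] at e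
    refine ⟨u, (((k : F) - u) + w) / 2, (((k : F) - u) - w) / 2, div_ne_zero (fun h => h2 ?_) hD0, huf, ?_, ?_, ?_⟩
    · have : (2 : F) * 2 = 0 := by rw [← h]; norm_num
      exact mul_self_eq_zero.mp this
    · rw [map_div₀, map_add, map_sub, (hmem _).mp k.2, (hmem _).mp w.2, huf, map_ofNat]
    · rw [map_div₀, map_sub, map_sub, (hmem _).mp k.2, (hmem _).mp w.2, huf, map_ofNat]
    · have hsum : u + ((k : F) - u + w) / 2 + ((k : F) - u - w) / 2 = k := by field_simp; ring
      rw [hsum, map_sub, (hmem _).mp k.2, mul_assoc _ (((k : F) - u + w) / 2)]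
      rw [show -D * u = -4 by rw [hu]; field_simp]
      simp only [T, N] at e
      field_simp
      linear_combination 4 * e

include K in
/-- Three transvections with prescribed trace of the product. -/
theorem exists_three [CharP F p] (τ : F) : ∃ (g₁ g₂ g₃ : SU 3 F q) (v₁ v₂ v₃ : Fin 3 → F) (c₁ c₂ c₃ : F),
    IsT K g₁ v₁ c₁ ∧ IsT K g₂ v₂ c₂ ∧ IsT K g₃ v₃ c₃ ∧ c₁ ≠ 0 ∧ c₂ ≠ 0 ∧ c₃ ≠ 0 ∧
      (mat (g₁ * g₂ * g₃)).trace = τ := by
  classical
  obtain ⟨B⟩ := CfsgLib.Classical.URegGen.exists_hb K 1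
  obtain ⟨δ, hδ0, hδ⟩ := exists_skew (F := F) K
  have hδb : K.bar δ = -δ := by linear_combination hδ
  have hD0 : δ * δ ≠ 0 := mul_ne_zero hδ0 hδ0
  have hD : K.bar (δ * δ) = δ * δ := by rw [map_mul, hδb]; ring
  obtain ⟨u, X, Y, hu, huf, hX, hY, hN⟩ := exists_params (p := p) K (δ * δ) hD hD0 ((τ - 3) / (δ * δ))
  set b := (τ - 3) / (δ * δ) - (u + X + Y)
  set a := b / (δ * u)
  have hab : a * K.bar a = X * (Y / u) := by
    simp only [a, map_div₀, map_mul, hδb, huf]
    field_simp
    linear_combination -hN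
  obtain ⟨α, β, hα, hβ, hαβ⟩ : ∃ α β : F, α * K.bar α = Y / u ∧ β * K.bar β = X ∧ α * K.bar β = a := by
    obtain ⟨β, hβ⟩ := K.exists_norm X hX
    by_cases hβ0 : β = 0
    · obtain ⟨α, hα⟩ := K.exists_norm (Y / u) (by rw [map_div₀, hY, huf])
      subst hβ0
      rw [zero_mul] at hβ
      rw [← hβ, zero_mul] at hab
      refine ⟨α, 0, hα, by rw [zero_mul, hβ], ?_⟩
      rcases mul_eq_zero.mp hab with h | h
      · rw [h, map_zero, mul_zero]
      · rw [(map_eq_zero K.bar).mp h, map_zero, mul_zero]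
    · have hb0 : K.bar β ≠ 0 := (map_ne_zero K.bar).mpr hβ0
      refine ⟨a / K.bar β, β, ?_, hβ, div_mul_cancel₀ _ hb0⟩
      rw [map_div₀, K.bar_bar, div_mul_div_comm, hab, mul_comm (K.bar β), hβ]
      rw [← hβ]; field_simp
  obtain ⟨γ, hγ⟩ := K.exists_norm (-(a + K.bar a)) (by rw [map_neg, map_add, K.bar_bar, add_comm])
  set v := α • B.E 0 + β • B.Fv 0 + γ • B.z
  have hv : H v v = 0 := by
    simp only [v, h_add_left K, h_add_right K, h_smul_left K, h_smul_right K, B.ee, B.ff, B.ze,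
      B.zf, B.zz, B.ez K, B.fz K, B.fe 0 0 one_pos one_pos, B.ef K one_pos one_pos, if_pos]
    rw [← hαβ, map_mul, K.bar_bar] at hγ
    linear_combination hγ
  have he1 : H v (B.E 0) = β := by
    simp only [v, h_add_left K, h_smul_left K, B.ee, B.ze, B.fe 0 0 one_pos one_pos, if_pos]; ring
  have he2 : H (B.E 0) v = K.bar β := by rw [h_swap K v (B.E 0), he1]
  have hf1 : H v (B.Fv 0) = α := by
    simp only [v, h_add_left K, h_smul_left K, B.ff, B.zf, B.ef K one_pos one_pos, if_pos]; ring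
  have hf2 : H (B.Fv 0) v = K.bar α := by rw [h_swap K v (B.Fv 0), hf1]
  obtain ⟨g₁, h₁⟩ := exists_T K (v := B.E 0) (c := δ) (B.ee 0 0) hδ
  obtain ⟨g₂, h₂⟩ := exists_T K (v := B.Fv 0) (c := δ * u) (B.ff 0 0)
    (by rw [map_mul, huf, hδb]; ring)
  obtain ⟨g₃, h₃⟩ := exists_T K (v := v) (c := δ) hv hδ
  refine ⟨g₁, g₂, g₃, _, _, _, _, _, _, h₁, h₂, h₃, hδ0, mul_ne_zero hδ0 hu, hδ0, ?_⟩
  rw [trace_three K h₁ h₂ h₃, B.fe 0 0 one_pos one_pos, B.ef K one_pos one_pos, if_pos rfl, he1, he2,
    hf1, hf2, hβ, hα]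
  have ht : δ * δ * ((τ - 3) / (δ * δ)) = τ - 3 := mul_div_cancel₀ _ hD0
  have hb : δ * u * a = b := mul_div_cancel₀ _ (mul_ne_zero hδ0 hu)
  have hY' : Y / u * u = Y := div_mul_cancel₀ _ hu
  linear_combination ht + (δ * δ) * hY' + (δ * δ) * hb + (δ * δ * u * δ) * hαβ

include K in
/-- Elements with the trace of an element of primitive prime order have that order. -/
theorem orderOf_of_trace [CharP F p] {n r : ℕ} [hr : Fact r.Prime] (hq : q = p ^ n) (hrp : p.Coprime r)
    (h3 : orderOf (ZMod.unitOfCoprime _ (hrp.pow_left (2 * n))) = 3)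
    {g M : SU 3 F q} (hg : orderOf g = r) (e : (mat M).trace = (mat g).trace) : orderOf M = r := by
  classical
  cases nonempty_fintype F
  have hcard : Fintype.card F = p ^ (2 * n) := by
    rw [← Nat.card_eq_fintype_card, K.card, hq, ← pow_mul, mul_comm]
  set P := (mat g).charpoly
  have hgr : mat g ^ r = 1 := congrArg mat (by rw [← hg, pow_orderOf_eq_one] : g ^ r = 1)
  have hmr : minpoly F (mat g) ∣ (X ^ r - 1 : F[X]) := minpoly.dvd F _ (by simp [hgr])
  have hmP : minpoly F (mat g) ∣ P := Matrix.minpoly_dvd_charpoly _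
  have hm0 : minpoly F (mat g) ≠ 0 := minpoly.ne_zero (Algebra.IsIntegral.isIntegral _)
  obtain ⟨h, hhm, hhi, hhc⟩ : ∃ h : F[X], h ∣ minpoly F (mat g) ∧ Irreducible h ∧ h ∣ cyclotomic r F := by
    by_contra hc
    push Not at hc
    have hco : IsCoprime (minpoly F (mat g)) (cyclotomic r F) := by
      refine isCoprime_of_irreducible_dvd (fun h => hm0 h.1) fun z hz h1 h2 => hc z h1 hz h2
    rw [← cyclotomic_prime_mul_X_sub_one F r] at hmr
    obtain ⟨c, hc⟩ := hco.dvd_of_dvd_mul_left hmr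
    have h0 := congrArg (aeval (mat g)) hc
    rw [map_mul, minpoly.aeval, zero_mul, map_sub, aeval_X, map_one, sub_eq_zero] at h0
    exact hr.out.one_lt.ne' (by rw [← hg, show g = 1 from Subtype.ext (Subtype.ext h0), orderOf_one])
  have hdeg : h.natDegree = 3 := by
    rw [natDegree_of_dvd_cyclotomic_of_irreducible hcard hrp hhc hhi, h3]
  have hPm : P.Monic := Matrix.charpoly_monic _
  have hPd : P.natDegree = 3 := by rw [Matrix.charpoly_natDegree_eq_dim, Fintype.card_fin]
  obtain ⟨c, hc⟩ := hhm.trans hmP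
  have hc0 : c ≠ 0 := fun h0 => hPm.ne_zero (by rw [hc, h0, mul_zero])
  have hcu : IsUnit c := by
    refine Polynomial.isUnit_iff_degree_eq_zero.mpr ?_
    rw [degree_eq_natDegree hc0]
    have := congrArg natDegree hc
    rw [natDegree_mul hhi.ne_zero hc0, hPd, hdeg] at this
    rw [show c.natDegree = 0 by omega]; rfl
  have hass : Associated h P := ⟨hcu.unit, by rw [IsUnit.unit_spec, ← hc]⟩
  have hPi : Irreducible P := hass.irreducible hhi
  have hPr : P ∣ (X ^ r - 1 : F[X]) :=
    hass.dvd'.trans (hhc.trans (Dvd.intro _ (cyclotomic_prime_mul_X_sub_one F r)))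
  have hMP : (mat M).charpoly = P := charpoly_eq K e
  have hMr : mat M ^ r = 1 := by
    obtain ⟨c', hc'⟩ := hPr
    have := congrArg (aeval (mat M)) hc'
    rw [map_mul, ← hMP, Matrix.aeval_self_charpoly, zero_mul, map_sub, map_pow, aeval_X, map_one, sub_eq_zero] at this
    exact this
  refine orderOf_eq_prime (Subtype.ext (Subtype.ext hMr)) fun h1 => ?_
  have hev : P.IsRoot 1 := by
    rw [← hMP, h1]
    simp [mat, Matrix.charpoly_one, IsRoot.def]
  have h1' : P.natDegree = 1 := natDegree_eq_of_degree_eq_some (degree_eq_one_of_irreducible_of_root hPi hev)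
  omega

end CfsgLib.ModuleIndex.UThree
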